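import Groth.Agent.RelCodim.Basic
import Groth.Agent.J2Lib.Descent
import Mathlib.AlgebraicGeometry.Fiber
import Mathlib.AlgebraicGeometry.Morphisms.Flat
import Mathlib.AlgebraicGeometry.Morphisms.UnderlyingMap

/-!
# Fibre dimensions under base change
-/

set_option autoImplicit false
universe u

open CategoryTheory CategoryTheory.Limits AlgebraicGeometry

noncomputable section

namespace Groth.Agent.RelCodim

variable {X S S' : Scheme.{u}}

theorem dim_fiber_stalk (f : X ⟶ S) (s : S) (z : f.fiber s) :
    ringKrullDim ((f.fiber s).presheaf.stalk z) = ringKrullDim (CInt.fiberStalk f (f.fiberι s z)) := by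
  rw [dim_fiberStalk_eq]
  exact (ringKrullDim_eq_of_ringEquiv ((Ideal.quotEquivOfEq (FlatDescent.ker_stalkMap_fiberι f s z).symm).trans
    (RingHom.quotientKerEquivOfSurjective ((f.fiberι s).stalkMap_surjective z)))).symm

theorem isNoetherianRing_fiber_stalk [IsLocallyNoetherian X] (f : X ⟶ S) (s : S) (z : f.fiber s) :
    IsNoetherianRing ((f.fiber s).presheaf.stalk z) :=
  isNoetherianRing_of_surjective _ _ _ ((f.fiberι s).stalkMap_surjective z)

variable (f : X ⟶ S) (g : S' ⟶ S) (s' : S')

/-- The map of fibres induced by a base change. -/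
def fibMap : (pullback.snd f g).fiber s' ⟶ f.fiber (g s') :=
  pullback.map _ _ _ _ (pullback.fst f g) (Spec.map (g.residueFieldMap s')) g pullback.condition.symm (by simp)

theorem isPullback_fibMap : IsPullback (fibMap f g s') ((pullback.snd f g).fiberToSpecResidueField s')
    (f.fiberToSpecResidueField (g s')) (Spec.map (g.residueFieldMap s')) :=
  isPullback_fiberToSpecResidueField_of_isPullback (IsPullback.of_hasPullback f g) s'

theorem fibMap_fiberι : fibMap f g s' ≫ f.fiberι (g s') = (pullback.snd f g).fiberι s' ≫ pullback.fst f g :=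
  pullback.lift_fst _ _ _

theorem flat_fibMap : Flat (fibMap f g s') := by
  refine MorphismProperty.of_isPullback (P := @Flat) (isPullback_fibMap f g s').flip ?_
  refine (HasRingHomProperty.Spec_iff (P := @Flat)).2 ?_
  letI := (g.residueFieldMap s').hom.toAlgebra
  show (g.residueFieldMap s').hom.Flat
  exact RingHom.flat_algebraMap_iff.2 inferInstance

theorem surjective_fibMap : Surjective (fibMap f g s') := by
  refine MorphismProperty.of_isPullback (P := @Surjective) (isPullback_fibMap f g s').flip ?_
  exact ⟨fun x => ⟨IsLocalRing.closedPoint _, Subsingleton.elim (α := PrimeSpectrum _) _ _⟩⟩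

theorem le_dim_baseChange (x' : (pullback f g : Scheme.{u})) :
    ringKrullDim (CInt.fiberStalk f (pullback.fst f g x')) ≤
      ringKrullDim (CInt.fiberStalk (pullback.snd f g) x') := by
  let p := pullback.snd f g
  let z := p.asFiber x'
  let h := fibMap f g (p x')
  have hflat : Flat h := flat_fibMap f g (p x')
  have hz : p.fiberι (p x') z = x' := p.fiberι_asFiber x'
  have hhz : f.fiberι (g (p x')) (h z) = pullback.fst f g x' := by
    rw [← Scheme.Hom.comp_apply, fibMap_fiberι, Scheme.Hom.comp_apply, hz]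
  refine ((le_of_eq ((dim_fiber_stalk f (g (p x')) (h z)).trans ?_).symm)).trans
    (le_trans ?_ (le_of_eq ((dim_fiber_stalk p (p x') z).trans ?_)))
  · rw [hhz]
  · letI := (h.stalkMap z).hom.toAlgebra
    haveI : IsLocalHom (algebraMap ((f.fiber (g (p x'))).presheaf.stalk (h z)) ((p.fiber (p x')).presheaf.stalk z)) :=
      inferInstanceAs (IsLocalHom (h.stalkMap z).hom)
    haveI : Module.Flat ((f.fiber (g (p x'))).presheaf.stalk (h z)) ((p.fiber (p x')).presheaf.stalk z) :=
      RingHom.flat_algebraMap_iff.1 (Flat.stalkMap h z)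
    exact J2Lib.ringKrullDim_le_of_flat _ _
  · rw [hz]

theorem exists_dim_baseChange_le [IsLocallyNoetherian X] [IsLocallyNoetherian (pullback f g)]
    (x : X) (hx : ∃ x' : (pullback f g : Scheme.{u}), pullback.fst f g x' = x) :
    ∃ x' : (pullback f g : Scheme.{u}), pullback.fst f g x' = x ∧
      ringKrullDim (CInt.fiberStalk (pullback.snd f g) x') ≤ ringKrullDim (CInt.fiberStalk f x) := by
  obtain ⟨x₀, rfl⟩ := hx
  let p := pullback.snd f g
  let h := fibMap f g (p x₀)
  have hhz : ∀ z, f.fiberι (g (p x₀)) (h z) = pullback.fst f g (p.fiberι (p x₀) z) := fun z => by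
    rw [← Scheme.Hom.comp_apply, fibMap_fiberι, Scheme.Hom.comp_apply]
  obtain ⟨z, hz, h0⟩ := exists_dim_fibre_zero h (h (p.asFiber x₀)) ⟨p.asFiber x₀, rfl⟩
  have hx : pullback.fst f g (p.fiberι (p x₀) z) = pullback.fst f g x₀ := by
    rw [← hhz, hz, hhz, p.fiberι_asFiber x₀]
  refine ⟨p.fiberι (p x₀) z, hx, ?_⟩
  rw [← dim_fiber_stalk p, ← hx, ← hhz, ← dim_fiber_stalk f]
  haveI := isNoetherianRing_fiber_stalk p (p x₀) z
  haveI := isNoetherianRing_fiber_stalk f (g (p x₀)) (h z)
  exact dim_le_of_fibre_zero (h.stalkMap z).hom h0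

end Groth.Agent.RelCodim
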