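import Groth.Agent.CIPres.FlatRegImm
import Groth.Prelude.Def_CInt
import Mathlib.RingTheory.Ideal.KrullsHeightTheorem

/-!
# Dimensions of local rings of fibres
-/

set_option autoImplicit false
universe u

open CategoryTheory AlgebraicGeometry

noncomputable section

namespace Groth.Agent.RelCodim

theorem dim_le_of_fibre_zero {A B : Type u} [CommRing A] [IsLocalRing A] [CommRing B] [IsLocalRing B]
    [IsNoetherianRing A] [IsNoetherianRing B] (φ : A →+* B) [IsLocalHom φ]
    (h0 : ringKrullDim (B ⧸ (IsLocalRing.maximalIdeal A).map φ) ≤ 0) :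
    ringKrullDim B ≤ ringKrullDim A := by
  letI := φ.toAlgebra
  haveI : IsLocalHom (algebraMap A B) := ‹IsLocalHom φ›
  haveI : (IsLocalRing.maximalIdeal B).LiesOver (IsLocalRing.maximalIdeal A) :=
    ⟨((IsLocalRing.local_hom_TFAE φ).out 0 4 rfl rfl |>.1 ‹_›).symm⟩
  have h := Ideal.height_le_height_add_of_liesOver (IsLocalRing.maximalIdeal A) (IsLocalRing.maximalIdeal B)
  rw [← IsLocalRing.maximalIdeal_height_eq_ringKrullDim, ← IsLocalRing.maximalIdeal_height_eq_ringKrullDim]
  refine WithBot.coe_le_coe.2 (h.trans ?_)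
  set Q := (IsLocalRing.maximalIdeal B).map (Ideal.Quotient.mk ((IsLocalRing.maximalIdeal A).map (algebraMap A B)))
  have hQ : Q ≠ ⊤ := fun e => (IsLocalRing.maximalIdeal.isMaximal B).ne_top (top_le_iff.1
    ((congrArg (Ideal.comap (Ideal.Quotient.mk _)) e).symm.le.trans
      ((Ideal.comap_map_of_surjective _ Ideal.Quotient.mk_surjective _).le.trans
        (sup_le le_rfl (Ideal.mk_ker.le.trans (IsLocalRing.map_maximalIdeal_le (algebraMap A B)))))))
  have hle : (Q.height : WithBot ℕ∞) ≤ 0 := (Ideal.height_le_ringKrullDim_of_ne_top hQ).trans h0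
  rw [show Q.height = 0 from le_antisymm (WithBot.coe_le_coe.1 hle) bot_le, add_zero]

variable {X S : Scheme.{u}}

theorem dim_fiberStalk_eq (f : X ⟶ S) (x : X) :
    ringKrullDim (CInt.fiberStalk f x) = ringKrullDim (X.presheaf.stalk x ⧸ FlatDescent.maxExt f x) :=
  (CIPres.nonempty_fiberStalk_equiv f x).elim fun e => ringKrullDim_eq_of_ringEquiv e

theorem dim_fiberStalk_le (f : X ⟶ S) (x : X) :
    ringKrullDim (CInt.fiberStalk f x) ≤ ringKrullDim (X.presheaf.stalk x) :=
  (dim_fiberStalk_eq f x).le.trans (ringKrullDim_le_of_surjective _ Ideal.Quotient.mk_surjective)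

theorem dim_fiber_stalk' (f : X ⟶ S) (s : S) (z : f.fiber s) :
    ringKrullDim ((f.fiber s).presheaf.stalk z) = ringKrullDim (CInt.fiberStalk f (f.fiberι s z)) := by
  rw [dim_fiberStalk_eq]
  exact (ringKrullDim_eq_of_ringEquiv ((Ideal.quotEquivOfEq (FlatDescent.ker_stalkMap_fiberι f s z).symm).trans
    (RingHom.quotientKerEquivOfSurjective ((f.fiberι s).stalkMap_surjective z)))).symm

/-- Over every point in the image there is a point with zero-dimensional fibre local ring. -/
theorem exists_dim_fibre_zero (f : X ⟶ S) (s : S) (hs : ∃ x, f x = s) :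
    ∃ x, f x = s ∧ ringKrullDim (X.presheaf.stalk x ⧸ FlatDescent.maxExt f x) ≤ 0 := by
  obtain ⟨x₀, hx₀⟩ := hs
  obtain ⟨z, -⟩ := (f.range_fiberι s).ge (hx₀ : x₀ ∈ f ⁻¹' {s})
  let C : irreducibleComponents (f.fiber s) :=
    ⟨irreducibleComponent z, irreducibleComponent_mem_irreducibleComponents z⟩
  let η := (genericPoints.ofComponent C).1
  have hmax : IsMax η := fun b hb => by
    have hb' : b ⤳ η := (Scheme.le_iff_specializes).1 hb
    have h1 : closure {η} ⊆ closure {b} := hb'.closure_subset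
    have h2 := (genericPoints.ofComponent C).2.2 isIrreducible_singleton.closure h1
    exact (Scheme.le_iff_specializes).2 (specializes_iff_mem_closure.2 (h2 (subset_closure rfl)))
  have h0 : ringKrullDim ((f.fiber s).presheaf.stalk η) = 0 := by
    rw [ringKrullDim_stalk_eq_coheight, Order.coheight_eq_zero.2 hmax]
    rfl
  refine ⟨f.fiberι s η, (f.range_fiberι s).le ⟨η, rfl⟩, ?_⟩
  rw [← ringKrullDim_eq_of_ringEquiv (((Ideal.quotEquivOfEq (FlatDescent.ker_stalkMap_fiberι f s η).symm).trans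
    (RingHom.quotientKerEquivOfSurjective ((f.fiberι s).stalkMap_surjective η))).symm), h0]

theorem dim_fiberStalk_comp_le [IsLocallyNoetherian X] {X' : Scheme.{u}} [IsLocallyNoetherian X'] (g : X' ⟶ X) (f : X ⟶ S) (x : X')
    (h0 : ringKrullDim (X'.presheaf.stalk x ⧸ FlatDescent.maxExt g x) ≤ 0) :
    ringKrullDim (CInt.fiberStalk (g ≫ f) x) ≤ ringKrullDim (CInt.fiberStalk f (g x)) := by
  rw [dim_fiberStalk_eq, dim_fiberStalk_eq]
  let I := FlatDescent.maxExt f (g x)
  let J := FlatDescent.maxExt (g ≫ f) x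
  have hle : I ≤ J.comap (g.stalkMap x).hom := by
    rw [← Ideal.map_le_iff_le_comap]
    exact (FlatDescent.maxExt_comp g f x).ge
  let φ : (X.presheaf.stalk (g x) ⧸ I) →+* (X'.presheaf.stalk x ⧸ J) := Ideal.quotientMap J (g.stalkMap x).hom hle
  have hIm : I ≤ IsLocalRing.maximalIdeal _ := Ideal.map_le_iff_le_comap.2 fun c hc => map_nonunit (f.stalkMap (g x)).hom c hc
  have hJm : J ≤ IsLocalRing.maximalIdeal _ := Ideal.map_le_iff_le_comap.2 fun c hc => map_nonunit ((g ≫ f).stalkMap x).hom c hc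
  haveI : Nontrivial (X.presheaf.stalk (g x) ⧸ I) := Ideal.Quotient.nontrivial_iff.2
    (ne_top_of_le_ne_top (IsLocalRing.maximalIdeal.isMaximal _).ne_top hIm)
  haveI : Nontrivial (X'.presheaf.stalk x ⧸ J) := Ideal.Quotient.nontrivial_iff.2
    (ne_top_of_le_ne_top (IsLocalRing.maximalIdeal.isMaximal _).ne_top hJm)
  haveI : IsLocalRing (X.presheaf.stalk (g x) ⧸ I) := IsLocalRing.of_surjective' _ Ideal.Quotient.mk_surjective
  haveI : IsLocalRing (X'.presheaf.stalk x ⧸ J) := IsLocalRing.of_surjective' _ Ideal.Quotient.mk_surjective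
  haveI : IsLocalHom (Ideal.Quotient.mk J) := IsLocalHom.of_surjective _ Ideal.Quotient.mk_surjective
  haveI : IsLocalHom φ := ⟨fun a ha => by
    obtain ⟨a, rfl⟩ := Ideal.Quotient.mk_surjective a
    exact (isUnit_of_map_unit (g.stalkMap x).hom a (isUnit_of_map_unit (Ideal.Quotient.mk J) _ ha)).map _⟩
  refine dim_le_of_fibre_zero φ (le_trans ?_ h0)
  refine ringKrullDim_le_of_surjective (Ideal.Quotient.lift (FlatDescent.maxExt g x)
    ((Ideal.Quotient.mk _).comp (Ideal.Quotient.mk J)) fun a ha => ?_)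
    (Ideal.Quotient.lift_surjective_of_surjective _ _ (Ideal.Quotient.mk_surjective.comp Ideal.Quotient.mk_surjective))
  suffices FlatDescent.maxExt g x ≤
      ((IsLocalRing.maximalIdeal _).map φ).comap (Ideal.Quotient.mk J) from
    Ideal.Quotient.eq_zero_iff_mem.2 (this ha)
  refine Ideal.map_le_iff_le_comap.2 fun c hc => ?_
  refine Ideal.mem_map_of_mem φ (x := Ideal.Quotient.mk I c) ?_
  haveI : IsLocalHom (Ideal.Quotient.mk I) := IsLocalHom.of_surjective _ Ideal.Quotient.mk_surjective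
  exact map_nonunit _ c hc

end Groth.Agent.RelCodim
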