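import Groth.Agent.RelCodim.Basic
import Groth.Agent.CIPres.Fibre
import Groth.Agent.CodimOneExt.Dim
import Groth.Agent.DepthLib.RegularLocal

/-!
# Codimension of a smooth subscheme of a smooth scheme
-/

set_option autoImplicit false
universe u

open CategoryTheory CategoryTheory.Limits AlgebraicGeometry

noncomputable section

namespace Groth.Agent.RelCodim

variable {X Y S : Scheme.{u}}

theorem coheight_fromSpecStalk_le (x : X) (P : Spec (X.presheaf.stalk x)) :
    Order.coheight (X.fromSpecStalk x P) ≤ Order.coheight P := by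
  refine Order.coheight_le fun p hp => ?_
  have hmem : ∀ i, ∃ t, X.fromSpecStalk x t = p i := fun i => by
    have h1 : p i ⤳ X.fromSpecStalk x P := Scheme.le_iff_specializes.1 (hp ▸ LTSeries.head_le p i)
    exact (Scheme.range_fromSpecStalk.ge (h1.trans (Scheme.range_fromSpecStalk.le ⟨P, rfl⟩)) :)
  choose t ht using hmem
  have hind := (X.fromSpecStalk x).isEmbedding
  have hle : ∀ i j, t i ≤ t j ↔ p i ≤ p j := fun i j => by
    rw [Scheme.le_iff_specializes, Scheme.le_iff_specializes, ← hind.toIsInducing.specializes_iff, ht, ht]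
  let q : LTSeries (Spec (X.presheaf.stalk x)) := LTSeries.mk p.length t fun i j hij =>
    lt_iff_le_not_ge.2 ⟨(hle i j).2 (p.strictMono hij).le, fun h => (p.strictMono hij).not_ge ((hle j i).1 h)⟩
  have hhead : t 0 = P := hind.injective ((ht 0).trans hp)
  exact Order.length_le_coheight (p := q) (le_of_eq hhead.symm)

theorem dim_stalk_fromSpecStalk_le (x : X) (P : Spec (X.presheaf.stalk x)) :
    ringKrullDim (X.presheaf.stalk (X.fromSpecStalk x P)) ≤ (P.asIdeal.height : WithBot ℕ∞) := by
  rw [ringKrullDim_stalk_eq_coheight, idealHeight_eq_coheight]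
  exact WithBot.coe_le_coe.2 (coheight_fromSpecStalk_le x P)

/-- A point of the fibre generalises to one with zero-dimensional local ring in the fibre. -/
theorem exists_generic_in_fibre (g : Y ⟶ S) (y : Y) :
    ∃ z : g.fiber (g y), z ⤳ g.asFiber y ∧ ringKrullDim ((g.fiber (g y)).presheaf.stalk z) = 0 := by
  let C : irreducibleComponents (g.fiber (g y)) :=
    ⟨irreducibleComponent (g.asFiber y), irreducibleComponent_mem_irreducibleComponents _⟩
  let η := (genericPoints.ofComponent C).1
  have hgen : IsGenericPoint η C.1 := by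
    have h := genericPoints.component_ofComponent C
    have h2 := genericPoints.isGenericPoint (genericPoints.ofComponent C)
    rwa [h] at h2
  have hmax : IsMax η := fun b hb => by
    have hb' : b ⤳ η := (Scheme.le_iff_specializes).1 hb
    have h2 := (genericPoints.ofComponent C).2.2 isIrreducible_singleton.closure hb'.closure_subset
    exact (Scheme.le_iff_specializes).2 (specializes_iff_mem_closure.2 (h2 (subset_closure rfl)))
  refine ⟨η, hgen.specializes mem_irreducibleComponent, ?_⟩
  rw [ringKrullDim_stalk_eq_coheight, Order.coheight_eq_zero.2 hmax]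
  rfl

theorem exists_dim_stalk_le [IsLocallyNoetherian X] (f : X ⟶ S) [Smooth f] (i : Y ⟶ X)
    [IsClosedImmersion i] [Smooth (i ≫ f)] (y : Y) :
    ∃ y' : Y, ringKrullDim (X.presheaf.stalk (i y')) ≤ ringKrullDim (CInt.fiberStalk f (i y)) := by
  obtain ⟨z, hzy, hz0⟩ := exists_generic_in_fibre (i ≫ f) y
  let s := (i ≫ f) y
  let w := (i ≫ f).fiberι s z
  have hiw : ringKrullDim (CInt.fiberStalk f (i w)) ≤ ringKrullDim (CInt.fiberStalk f (i y)) := by
    let φ := CInt.fiberMap i f s
    have hφ : ∀ t, f.fiberι s (φ t) = i ((i ≫ f).fiberι s t) := fun t => by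
      have hc : φ ≫ f.fiberι s = (i ≫ f).fiberι s ≫ i := pullback.lift_fst (f := f) (g := S.fromSpecResidueField s) _ _ _
      rw [← Scheme.Hom.comp_apply, hc, Scheme.Hom.comp_apply]
    have h := CodimOneExt.ringKrullDim_stalk_le_of_specializes (hzy.map φ.continuous)
    refine (le_of_eq ?_).trans (h.trans (le_of_eq ?_))
    · rw [dim_fiber_stalk' f s (φ z), hφ]
    · rw [dim_fiber_stalk' f s, hφ, (i ≫ f).fiberι_asFiber y]
  have hw0 : ringKrullDim (CInt.fiberStalk (i ≫ f) w) = 0 := by
    rw [← dim_fiber_stalk', hz0]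
  haveI := CIPres.isRegularLocalRing_fiberStalk f (i w)
  haveI := CIPres.isRegularLocalRing_fiberStalk (i ≫ f) w
  let A := S.presheaf.stalk (f (i w))
  let C := X.presheaf.stalk (i w)
  let φ : C →+* Y.presheaf.stalk w := (i.stalkMap w).hom
  have hφ : Function.Surjective φ := i.stalkMap_surjective w
  letI : Algebra A C := (f.stalkMap (i w)).hom.toAlgebra
  haveI : IsLocalHom (algebraMap A C) := inferInstanceAs (IsLocalHom (f.stalkMap (i w)).hom)
  let J : Ideal C := RingHom.ker φ
  let I : Ideal C := (IsLocalRing.maximalIdeal A).map (algebraMap A C)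
  have hB : (φ.comp (algebraMap A C)).Flat := by
    have h := Flat.stalkMap (i ≫ f) w
    rw [Scheme.Hom.stalkMap_comp] at h
    exact h
  haveI : Module.Flat A (C ⧸ J) :=
    RingHom.flat_algebraMap_iff.1 (by
      have h := RingHom.Flat.comp hB
        (RingHom.Flat.of_bijective (f := (RingHom.quotientKerEquivOfSurjective hφ).symm.toRingHom)
          (RingHom.quotientKerEquivOfSurjective hφ).symm.bijective)
      convert h using 1
      ext a
      exact ((RingHom.quotientKerEquivOfSurjective hφ).symm_apply_apply _).symm)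
  obtain ⟨eC⟩ := CIPres.nonempty_fiberStalk_equiv f (i w)
  haveI : IsRegularLocalRing (C ⧸ I) := IsRegularLocalRing.of_ringEquiv eC
  obtain ⟨eY⟩ := CIPres.nonempty_fiberStalk_equiv (i ≫ f) w
  obtain ⟨eQ⟩ := CIPres.nonempty_quot_map_equiv φ hφ I
  let e : ((C ⧸ I) ⧸ J.map (Ideal.Quotient.mk I)) ≃+* CInt.fiberStalk (i ≫ f) w :=
    eQ.trans ((Ideal.quotEquivOfEq (Groth.FlatDescent.maxExt_comp i f w).symm).trans eY.symm)
  haveI : Ring.KrullDimLE 0 (CInt.fiberStalk (i ≫ f) w) := Ring.krullDimLE_iff.2 hw0.le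
  haveI : IsDomain (CInt.fiberStalk (i ≫ f) w) := DepthLib.isDomain_of_isRegularLocalRing _
  have hfield : IsField (CInt.fiberStalk (i ≫ f) w) := Ring.KrullDimLE.isField_of_isDomain
  have hmax : J.map (Ideal.Quotient.mk I) = IsLocalRing.maximalIdeal (C ⧸ I) :=
    IsLocalRing.eq_maximalIdeal (Ideal.Quotient.maximal_of_isField _ (e.toMulEquiv.isField hfield))
  obtain ⟨rb, hrbl, hrb⟩ : ∃ rb : List (C ⧸ I), (rb.length : WithBot ℕ∞) = ringKrullDim (C ⧸ I) ∧
      Ideal.ofList rb = J.map (Ideal.Quotient.mk I) := by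
    obtain ⟨T, hTc, hT⟩ := Submodule.FG.exists_span_finset_card_eq_spanFinrank
      (IsNoetherian.noetherian (IsLocalRing.maximalIdeal (C ⧸ I)))
    refine ⟨T.toList, ?_, ?_⟩
    · rw [Finset.length_toList, hTc, (isRegularLocalRing_iff (C ⧸ I)).1 ‹_›]
    · rw [hmax, Ideal.ofList, ← hT]
      congr 1
      ext a
      simp
  obtain ⟨rs, hmap, hgen⟩ := CIPres.exists_lift_gens J (IsNoetherian.noetherian J) rb hrb
  obtain ⟨Q, hQ⟩ := Ideal.nonempty_minimalPrimes (I := J) (RingHom.ker_ne_top φ)
  haveI := hQ.1.1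
  have hht : Q.height ≤ rs.length := by
    classical
    have hspan : Ideal.span (rs.toFinset : Set C) = J := by
      rw [← hgen, Ideal.ofList]
      congr 1
      ext a
      simp
    refine (Ideal.height_le_card_of_mem_minimalPrimes_span_finset (s := rs.toFinset) (by rwa [hspan])).trans ?_
    exact_mod_cast rs.toFinset_card_le
  let P : Spec (Y.presheaf.stalk w) := ⟨Q.map φ, Ideal.map_isPrime_of_surjective hφ hQ.1.2⟩
  refine ⟨Y.fromSpecStalk w P, ?_⟩
  have hP : i (Y.fromSpecStalk w P) = X.fromSpecStalk (i w) (⟨Q, hQ.1.1⟩ : PrimeSpectrum C) := by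
    rw [← Scheme.Hom.comp_apply, ← Scheme.SpecMap_stalkMap_fromSpecStalk, Scheme.Hom.comp_apply]
    congr 1
    refine PrimeSpectrum.ext ?_
    show (Q.map φ).comap φ = Q
    rw [Ideal.comap_map_of_surjective φ hφ]
    exact sup_eq_left.2 hQ.1.2
  rw [hP]
  refine (dim_stalk_fromSpecStalk_le _ _).trans (le_trans ?_ hiw)
  rw [dim_fiberStalk_eq]
  refine le_trans ?_ (le_of_eq hrbl)
  have : rs.length = rb.length := by rw [← hmap, List.length_map]
  exact WithBot.coe_le_coe.2 (this ▸ hht)

end Groth.Agent.RelCodim
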